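import Cfsg.Agent.Lib.E83.Link
import Mathlib.Data.Nat.Choose.Lucas

/-! Sums over the weights of the simple modules of `SL₂`, digit by digit. -/

set_option autoImplicit false

namespace Cfsg.Lib.E83

open Finset Cfsg.Lib.Chev

theorem mem_wI {p a l : ℕ} : l ∈ wI p a ↔ ¬ p ∣ a.choose l := by
  rw [wI, mem_filter, mem_range, and_iff_right_iff_imp]
  intro h
  by_contra h'
  exact h (by rw [Nat.choose_eq_zero_of_lt (by omega)]; exact dvd_zero p)

theorem mem_wI_iff (p : ℕ) [hp : Fact p.Prime] {a l : ℕ} :
    l ∈ wI p a ↔ l % p < a % p + 1 ∧ l / p ∈ wI p (a / p) := by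
  rw [mem_wI, mem_wI, (Choose.choose_modEq_choose_mod_mul_choose_div_nat (p := p)).dvd_iff dvd_rfl,
    hp.out.dvd_mul, not_or]
  refine and_congr_left' ⟨fun h => ?_, fun h h' => ?_⟩
  · by_contra h'
    exact h (by rw [Nat.choose_eq_zero_of_lt (by omega)]; exact dvd_zero p)
  · have := (hp.out.dvd_factorial).1 (h'.trans ⟨_, (Nat.choose_mul_factorial_mul_factorial
      (Nat.le_of_lt_succ h)).symm.trans (mul_assoc _ _ _)⟩)
    exact (Nat.mod_lt a hp.out.pos).not_ge this

theorem sum_wI (p : ℕ) [hp : Fact p.Prime] (a : ℕ) (F : ℕ → ℕ) :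
    ∑ l ∈ wI p a, F l = ∑ d ∈ range (a % p + 1), ∑ l ∈ wI p (a / p), F (d + p * l) := by
  rw [← sum_product']
  have h0 := hp.out.pos
  have key : ∀ x ∈ range (a % p + 1) ×ˢ wI p (a / p), (x.1 + p * x.2) % p = x.1 ∧
      (x.1 + p * x.2) / p = x.2 := fun x hx => by
    have h1 : x.1 < p := (mem_range.1 (mem_product.1 hx).1).trans_le (Nat.mod_lt a h0)
    rw [Nat.add_mul_mod_self_left, Nat.add_mul_div_left _ _ h0, Nat.mod_eq_of_lt h1,
      Nat.div_eq_of_lt h1, zero_add]
    exact ⟨rfl, rfl⟩
  refine sum_nbij' (fun l => (l % p, l / p)) (fun x => x.1 + p * x.2) (fun l hl => ?_)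
    (fun x hx => ?_) (fun l _ => Nat.mod_add_div l p) (fun x hx => Prod.ext (key x hx).1 (key x hx).2)
    fun l _ => by rw [Nat.mod_add_div]
  · simpa only [mem_product, mem_range] using (mem_wI_iff p).1 hl
  · rw [mem_wI_iff, (key x hx).1, (key x hx).2]
    simpa only [mem_product, mem_range] using hx

/-- The sum of `g (o + s * l)` over the weights `l`. -/
noncomputable def sW (g : ℕ → ℕ) (f : ℕ) : ℕ → ℕ → ℕ → ℕ :=
  Nat.rec (fun _ _ o => g o) (fun _ ih a s o => Nat.rec 0
    (fun d x => Nat.add x (ih (Nat.div a 3) (Nat.mul 3 s) (Nat.add o (Nat.mul s d))))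
      (Nat.succ (Nat.mod a 3))) f

theorem sW_eq (g : ℕ → ℕ) (f a s o : ℕ) (h : a < 3 ^ f) :
    sW g f a s o = ∑ l ∈ wI 3 a, g (o + s * l) := by
  induction f generalizing a s o with
  | zero =>
    obtain rfl : a = 0 := by omega
    rw [show wI 3 0 = {0} by decide, sum_singleton]
    rfl
  | succ f ih =>
    have : Fact (Nat.Prime 3) := ⟨Nat.prime_three⟩
    rw [sum_wI 3]
    change (Nat.rec 0 (fun d x => x + sW g f (a / 3) (3 * s) (o + s * d)) (a % 3 + 1) : ℕ) = _
    induction a % 3 + 1 with
    | zero => rfl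
    | succ d ihd =>
      rw [sum_range_succ, ← ihd]
      refine congrArg _ ((ih _ _ _ (by omega)).trans (sum_congr rfl fun l _ => congrArg g ?_))
      ring

/-- The function `g - c` has a nonnegative sum over the weights of each simple module. -/
def Good (n : ℕ) (g : ℕ → ℕ) (c : ℕ) : Prop :=
  ∀ b < n, c * (wI 3 (2 * b)).card ≤ ∑ l ∈ wI 3 (2 * b), g ((b + (n - 1) * l) % n)

theorem good_of_chk {n f c : ℕ} {g : ℕ → ℕ} (h : 2 * n = 3 ^ f + 1)
    (hc : allTo n (fun b => Nat.ble (sW (fun _ => c) f (Nat.mul 2 b) 0 0)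
      (sW (fun e => g (Nat.mod e n)) f (Nat.mul 2 b) (n - 1) b)) = true) : Good n g c :=
  fun b hb => by
  have := Nat.le_of_ble_eq_true (allTo_iff.1 hc b hb)
  rwa [Nat.mul_eq, sW_eq _ _ _ _ _ (by omega), sW_eq _ _ _ _ _ (by omega), sum_const, smul_eq_mul,
    mul_comm] at this

/-- A table of bytes. -/
def g8 (T i : ℕ) : ℕ := Nat.land (Nat.shiftRight T (Nat.mul 8 i)) 255

/-- A certificate. -/
def tA : ℕ := 0x5f765f7763765b6e5f7a60776377637b577667835b7b606e677a5f6e577a577a60835777606e63765f775b7a637b677b676e578360765b7b67835b8300835b83677b5b766083576e677b677b637a5b775f76636e60775783607a577a576e5f7a676e607b5b836776577b63776377607a5f6e5b7663775f765f7f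

theorem good_tA : Good 122 (g8 tA) 105 := good_of_chk (f := 5) rfl (by decide +kernel)

/-- A certificate. -/
def tB : ℕ := 0x7f817f7e958168817f9d797e848495719381759b687180817f817f817c9d808c7984987e8c8084957e847180957b6e717b98938a7c817f8a756e849b6c9368839d717179809d9d8100837f7b8c81759d7f81938198807c939d9d9d9d80939d8c839d799d93848a7c986e807e80988c7c81809b9384798195817f7e689d847175717f8180848c95717b7b8a7f6e6c83719d007b758198939d93839d8a6e807c9b798168717f84718a6c9d7593836e9b68846c939b6c6c6c6c9b936c84689b6e8393759d6c8a71847f716881799b7c806e8a9d83939d939881757b009d71836c6e7f8a7b7b71958c8480817f717571849d687e7f8195817984939b80817c8c98807e806e987c8a84939d799d838c9d93809d9d9d9d937c80988193817f9d75818c7b7f8300819d9d807971719d8368936c9b846e758a7f817c8a93987b716e7b958071847e9584808c7e9884798c809d7c817f817f818071689b758193719584847e799d7f816881957e7f817f7f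

theorem good_tB : Good 365 (g8 tB) 127 := good_of_chk (f := 6) rfl (by decide +kernel)

/-- A certificate. -/
def tC : ℕ := 0x1e001e005a003c001e0000000f0f5a00690000003cb4000087001e00000000000000000000000f5a000fb4005a00000000006900000087000000000034003c0000b400000000230000008700000000001e00690000000000230023230069000000230000000000000000000000000000000000690f00005a001e003c000f0000b487000000005ab400000087003400000000000000000023690000000000000000003c008700b400340000000000003c0034000034343434000034003c0000000000003400b40087003c0000000000000000006923000000000000000000340087000000b45a0000000087b400000f003c001e005a00000f69000000000000000000000000000000000023000000690023230023000000000069001e0000000000870000002300000000b400003c00340000000000870000006900000000005a00b40f005a0f00000000000000000000001e00870000b43c00000069005a0f0f0000001e003c005a001e001e0f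

theorem good_tC : Good 365 (g8 tC) 15 := good_of_chk (f := 6) rfl (by decide +kernel)

end Cfsg.Lib.E83
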