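import Cfsg.Agent.Lib.E83.Red

/-! The semisimple elements of order 122 of `E₈(3)`. -/

set_option autoImplicit false

namespace Cfsg.Lib.E83.D61

open Matrix Cfsg.Lib.Chev

/-- An element of the Weyl group with two eigenvalues 3 modulo 61. -/
def w0 : List (Fin 8) := [1, 3, 4, 2, 3, 0, 2, 1, 3, 4, 5, 6, 7, 3, 2, 1, 3, 4, 5, 6, 2, 3, 4, 5]

/-- An eigenvector. -/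
def y1 : V8 := toV 8 [0, 10, 30, 13, 10, 10, 1, 0]

/-- An eigenvector. -/
def y2 : V8 := toV 8 [10, 52, 15, 32, 35, 32, 0, 1]

theorem h1 : wm w0 *ᵥ y1 - (3 : ℤ) • y1 ∈ dv _ (61 : ℕ) := mem_dv.2 (by decide +kernel)

theorem h2 : wm w0 *ᵥ y2 - (3 : ℤ) • y2 ∈ dv _ (61 : ℕ) := mem_dv.2 (by decide +kernel)

theorem ty20 : TyOK 61 2 (Ex 122) (toV 8 [0, 10, 30, 74, 10, 10, 62, 0]) :=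
  tyOK_of (by decide) (by decide) (by decide) (by decide) (by decide) w0
    (Matrix.of (toM 8 8 [[3, -1, -3, 1, 1, -1, 0, 1], [2, -1, -1, 0, 1, -1, 0, 1], [0, 0, 0, 0, 0, 0, 0, 0], [0, 0, 0, 0, 0, 0, 0, 0], [1, -3, 1, 1, 0, -2, 1, 1], [3, -2, -2, 1, 1, -2, 1, 1], [0, 0, 0, 0, 0, 0, 0, 0], [0, 0, 0, 0, 0, 0, 0, 0]]))
    (toM 4 8 [[0, 61, 61, 0, 0, 0, 0, 0], [61, 0, 0, 61, 0, 0, 0, 0], [0, 61, 0, 0, 61, 0, 61, 0], [0, 61, 0, 0, 61, 61, 0, 61]])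
    ![2, 3, 6, 7] [1, 2, 4, 5, 8, 10] (by decide +kernel) (by decide +kernel) (by decide +kernel)
    (by decide +kernel) (by decide +kernel) (by decide +kernel)
    (ex_of_chk good_tA good_tA (by decide +kernel))

theorem lines : (∀ c : ℕ, c < 61 → TyOK 61 2 (Ex 122) (y1 + (c : ℤ) • y2)) ∧ TyOK 61 2 (Ex 122) y2 :=
  tyOK_lines (by decide) (by decide) w0 h1 h2
    (Matrix.of (toM 8 8 [[0, 0, 0, 0, 1, 1, 0, 1], [1, 1, 0, 1, 1, 1, 1, 1], [1, 1, 0, 1, 1, 0, 1, 1], [1, 1, 1, 1, 0, 0, 0, 0], [1, 0, 0, 1, 1, 0, 1, 0], [0, 1, 0, 1, 1, 1, 1, 1], [1, 0, 1, 0, 1, 1, 0, 1], [1, 1, 0, 0, 0, 1, 0, 0]]))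
    (by decide +kernel) (tyOK_sp ty20 [
      (0, [], 1),
      (1, [7, 2, 3, 4, 5, 3, 4, 2, 1, 3, 0, 2, 1], 1),
      (6, [2, 3, 0, 2, 1, 3, 4, 5, 6, 7, 4, 3, 2, 1, 3, 4, 5, 6, 0, 2, 3, 4, 5, 1, 3, 4, 2, 3, 0, 2, 1, 3, 4, 5, 6, 7, 3, 4, 2, 3, 0, 2, 1, 3, 4, 5, 6, 0, 2, 1, 3, 4, 5, 4, 3, 0, 2, 1, 3, 4, 1, 3, 2, 0], 4),
      (9, [2, 3, 4, 5, 6, 7, 1, 3, 4, 5, 6, 0, 2, 3, 4, 5, 1, 3, 4, 2, 3, 0, 2, 1, 3, 4, 5, 6, 7, 3, 4, 5, 6, 0, 2, 3, 4, 5, 1, 3, 4, 2, 3, 0, 2, 1, 3, 4, 5, 2, 3, 4, 2, 1, 0], 5),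
      (16, [5, 4, 3, 2, 1, 3, 4, 5, 6, 0, 2, 3, 4, 5, 1, 3, 4, 2, 3, 0, 2, 1, 3, 4, 5, 6, 7, 3, 4, 2, 3, 0, 2, 1, 3, 4, 5, 6, 0, 2, 3, 4, 5, 1, 3, 4, 2, 3, 0, 2, 1, 3, 4, 5, 3, 4, 0, 2, 1, 3, 1, 0], 5),
      (19, [1, 3, 4, 5, 6, 7, 5, 1, 3, 4, 2, 3, 0, 2, 1, 3, 4, 5, 6, 4, 3, 0, 2, 1, 3, 4, 5, 1, 3, 4, 3, 0, 2, 1, 3, 2, 1], 4),
      (23, [6, 7, 1, 3, 4, 5, 6, 0, 2, 3, 4, 5, 1, 3, 4, 2, 3, 0, 2, 1, 3, 4, 5, 6, 7, 6, 4, 5, 3, 2, 1, 3, 4, 2, 1, 3, 2, 1, 0], 5),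
      (31, [2, 1, 3, 4, 5, 6, 7, 2, 1, 3, 4, 5, 6, 0, 2, 3, 4, 5, 1, 3, 4, 2, 3, 0, 2, 1, 3, 4, 5, 6, 7, 3, 2, 1, 3, 4, 5, 6, 3, 4, 2, 3, 0, 2, 1, 3, 4, 5, 4, 3, 0, 2, 1, 3, 4, 3, 2, 1], 1),
      (43, [6, 3, 4, 5, 1, 3, 4, 2, 3, 0, 2, 1, 3, 4, 5, 6, 7, 4, 5, 6, 5, 4, 3, 0, 2, 1, 3, 4, 5, 4, 3, 2, 1, 3, 4, 2, 3, 0, 2, 0], 4),
      (46, [6, 7, 1, 3, 4, 5, 6, 0, 2, 3, 4, 5, 1, 3, 4, 2, 3, 0, 2, 1, 3, 4, 5, 6, 7, 4, 3, 2, 1, 3, 4, 5, 6, 5, 4, 3, 2, 1, 3, 4, 5, 4, 2, 3, 0, 2, 1, 3, 4, 2, 1, 3, 0, 2, 1, 0], 10),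
      (50, [5, 4, 3, 2, 1, 3, 4, 5, 6, 7, 6, 5, 4, 3, 2, 1, 3, 4, 5, 6, 0, 2, 3, 4, 5, 1, 3, 4, 2, 3, 0, 2, 1, 3, 4, 5, 6, 7, 1, 3, 4, 5, 6, 5, 4, 2, 3, 0, 2, 1, 3, 4, 5, 3, 0, 2, 1, 3, 4, 3, 1, 0], 8),
      (55, [3, 2, 1, 3, 4, 5, 6, 7, 2, 1, 3, 4, 5, 6, 3, 2, 1, 3, 4, 1, 3, 2, 0], 2)] (by decide +kernel))
    (by decide +kernel)

end Cfsg.Lib.E83.D61
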