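import Cfsg.Agent.Lib.E83.Red

/-! The semisimple elements of order 365 of `E₈(3)`. -/

set_option autoImplicit false

namespace Cfsg.Lib.E83.D73

open Matrix Cfsg.Lib.Chev

/-- An element of the Weyl group with two eigenvalues 3 modulo 73. -/
def w0 : List (Fin 8) := [2, 1, 3, 4, 5, 6, 7, 5, 6, 0, 2, 1, 3, 4, 5, 2, 1, 3, 4, 0]

/-- An eigenvector. -/
def y1 : V8 := toV 8 [3, 68, 52, 44, 44, 50, 1, 0]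

/-- An eigenvector. -/
def y2 : V8 := toV 8 [46, 8, 6, 17, 14, 24, 0, 1]

theorem h1 : wm w0 *ᵥ y1 - (3 : ℤ) • y1 ∈ dv _ (73 : ℕ) := mem_dv.2 (by decide +kernel)

theorem h2 : wm w0 *ᵥ y2 - (3 : ℤ) • y2 ∈ dv _ (73 : ℕ) := mem_dv.2 (by decide +kernel)

theorem ty24 : TyOK 73 5 (Ex 365) (toV 8 [295, 360, 125, 190, 190, 50, 220, 0]) :=
  tyOK_of (by decide) (by decide) (by decide) (by decide) (by decide) w0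
    (Matrix.of (toM 8 8 [[4, -7, 6, 1, -9, 4, 2, 3], [4, -6, 3, 3, -10, 3, 4, 3], [6, -6, 6, 0, -8, 2, 2, 4], [0, 0, 0, 0, 0, 0, 0, 0], [-2, -3, -1, 4, -3, 1, 0, 2], [0, 0, 0, 0, 0, 0, 0, 0], [0, 0, 0, 0, 0, 0, 0, 0], [0, 0, 0, 0, 0, 0, 0, 0]]))
    (toM 4 8 [[0, 146, 146, 146, 0, 0, 0, 0], [146, 219, 219, 0, 146, 146, 0, 0], [0, 219, 0, 0, 146, 0, 146, 0], [219, 292, 146, 0, 219, 0, 0, 146]])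
    ![3, 5, 6, 7] [1, 2, 4, 5, 7, 13] (by decide +kernel) (by decide +kernel) (by decide +kernel)
    (by decide +kernel) (by decide +kernel) (by decide +kernel)
    (ex_of_chk good_tB good_tC (by decide +kernel))

theorem ty12 : TyOK 73 5 (Ex 365) (toV 8 [355, 180, 355, 355, 240, 240, 220, 160]) :=
  tyOK_of (by decide) (by decide) (by decide) (by decide) (by decide) w0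
    (Matrix.of (toM 8 8 [[10, 4, 0, -8, 1, 2, 2, 1], [5, 1, 0, -3, 0, 0, 2, 1], [0, 0, 0, 0, 0, 0, 0, 0], [9, 7, 0, -11, 3, 1, 3, 3], [0, 0, 0, 0, 0, 0, 0, 0], [2, 6, 0, -8, 4, 1, 1, 1], [0, 0, 0, 0, 0, 0, 0, 0], [0, 0, 0, 0, 0, 0, 0, 0]]))
    (toM 4 8 [[0, 0, 146, 0, 0, 0, 0, 0], [73, 73, 0, 146, 146, 0, 0, 0], [0, 146, 0, 146, 0, 146, 146, 0], [292, 146, 0, 219, 0, 146, 0, 146]])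
    ![2, 4, 6, 7] [1, 2, 4, 5, 7, 13] (by decide +kernel) (by decide +kernel) (by decide +kernel)
    (by decide +kernel) (by decide +kernel) (by decide +kernel)
    (ex_of_chk good_tB good_tC (by decide +kernel))

theorem lines : (∀ c : ℕ, c < 73 → TyOK 73 5 (Ex 365) (y1 + (c : ℤ) • y2)) ∧ TyOK 73 5 (Ex 365) y2 :=
  tyOK_lines (by decide) (by decide) w0 h1 h2
    (Matrix.of (toM 8 8 [[4, 4, 4, 0, 4, 3, 1, 0], [4, 3, 0, 3, 4, 3, 0, 4], [1, 0, 4, 3, 2, 4, 2, 4], [0, 2, 1, 2, 3, 1, 4, 2], [1, 3, 0, 0, 4, 3, 2, 0], [3, 4, 0, 3, 1, 0, 3, 4], [3, 0, 3, 2, 4, 3, 3, 1], [3, 3, 2, 4, 3, 1, 4, 2]]))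
    (by decide +kernel) (List.forall_mem_append.2 ⟨(tyOK_sp ty24 [
      (0, [], 1),
      (1, [7, 2, 1, 3, 4, 5, 6, 4, 2, 3, 0, 2, 1, 3, 4, 5, 3, 4, 2, 3], 1),
      (19, [0, 2, 1, 3, 4, 5, 6, 7, 4, 5, 6, 0, 2, 3, 4, 5, 1, 3, 4, 2, 3, 0, 2, 1, 3, 4, 5, 6, 5, 4, 3, 2, 1, 3, 4, 5, 2, 1, 3, 4, 3, 0, 2, 0], 2),
      (22, [2, 3, 4, 5, 1, 3, 4, 2, 3, 0, 2, 1, 3, 4, 5, 6, 7, 5, 4, 3, 2, 1, 3, 4, 5, 6, 0, 2, 3, 4, 5, 1, 3, 4, 2, 3, 0, 2, 1, 3, 4, 5, 6, 7, 2, 1, 3, 4, 5, 6, 0, 2, 3, 4, 5, 1, 3, 4, 2, 3, 0, 2, 1, 3, 4, 5, 6, 0, 2, 3, 4, 5, 1, 3, 4, 2, 3, 0, 2, 1, 3, 4, 5, 2, 1, 3, 0], 7),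
      (26, [7, 6, 5, 1, 3, 4, 2, 3, 0, 2, 1, 3, 4, 5, 6, 7, 2, 3, 0, 2, 1, 3, 4, 5, 6, 2, 3, 0, 2, 1, 3, 4, 5, 4, 0, 2], 5),
      (56, [7, 3, 4, 5, 6, 2, 3, 4, 5, 1, 3, 4, 2, 3, 0, 2, 1, 3, 4, 5, 6, 7, 4, 5, 3, 4, 2, 3, 0, 2, 1, 3, 4, 5, 6, 5, 4, 3, 2, 1, 3], 2)] (by decide +kernel)),
    (tyOK_sp ty12 [
      (14, [], 1),
      (30, [6, 7, 5, 6, 0, 2, 3, 4, 5, 1, 3, 4, 2, 3, 0, 2, 1, 3, 4, 5, 6, 7, 5, 6, 4, 5, 0, 2, 3, 4, 2, 1, 3, 2, 0], 1),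
      (34, [3, 0, 2, 1, 3, 4, 5, 6, 7, 6, 5, 4, 3, 2, 1, 3, 4, 5, 6, 0, 2, 3, 4, 5, 1, 3, 4, 2, 3, 0, 2, 1, 3, 4, 5, 6, 7, 0, 2, 3, 4, 5, 6, 4, 3, 0, 2, 1, 3, 4, 5, 3, 4, 0, 2, 3, 1, 0], 2),
      (37, [5, 6, 4, 5, 1, 3, 4, 2, 3, 0, 2, 1, 3, 4, 5, 6, 7, 5, 6, 2, 3, 4, 5, 1, 3, 4, 2, 3, 0, 2, 1, 3, 4, 5, 6, 3, 2, 1, 3, 4, 5, 2, 3, 4, 2, 1, 3, 0, 2, 1, 0], 5),
      (45, [5, 6, 7, 6, 5, 4, 3, 2, 1, 3, 4, 5, 6, 0, 2, 3, 4, 5, 1, 3, 4, 2, 3, 0, 2, 1, 3, 4, 5, 6, 7, 3, 4, 5, 6, 4, 5, 1, 3, 4, 2, 3, 0, 2, 1, 3, 4, 5, 1, 3, 4, 2, 3, 0, 2, 1, 3, 4, 0, 2, 3, 1, 0], 2),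
      (55, [5, 4, 3, 0, 2, 1, 3, 4, 5, 6, 7, 5, 4, 3, 2, 1, 3, 4, 5, 6, 0, 2, 3, 4, 5, 1, 3, 4, 2, 3, 0, 2, 1, 3, 4, 5, 6, 7, 0, 2, 1, 3, 4, 5, 6, 4, 5, 3, 4, 2, 3, 0, 2, 1, 3, 4, 5, 4, 3, 2, 1, 3, 4, 2, 3, 0, 2, 1, 3, 0, 2, 1, 0], 13),
      (63, [6, 2, 3, 4, 5, 1, 3, 4, 2, 3, 0, 2, 1, 3, 4, 5, 6, 7, 3, 4, 5, 6, 5, 4, 3, 2, 1, 3, 4, 5, 3, 4, 2, 3, 0, 2, 1, 3, 4, 0, 2, 1, 0], 4),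
      (65, [4, 5, 6, 7, 3, 4, 5, 6, 0, 2, 3, 4, 5, 1, 3, 4, 2, 3, 0, 2, 1, 3, 4, 5, 6, 7, 6, 5, 4, 3, 0, 2, 1, 3, 4, 5, 6, 1, 3, 4, 5, 4, 3, 2, 1, 3, 1], 5)] (by decide +kernel))⟩)
    (by decide +kernel)

end Cfsg.Lib.E83.D73
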